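import Mathlib
import Cfsg.Agent.H691.AN.Defs
import Cfsg.Agent.H597.Degrees
import Cfsg.Agent.H424.DegTools
import Cfsg.Agent.OddOrderCharacters.IndRes
import Cfsg.Agent.OddOrderCharacters.InertiaAbelian

/-!
# S4766, piece B7: the degrees of `M` prime to `q` (helper521)

`b7_coprime` : if `M / N` is an elementary abelian chief factor of order `q ^ a` on which the abelian
group `G / M` acts freely, then for every degree `t` of `M` prime to `q` the number `|G : M| t` is a
degree of `G`.
-/

set_option autoImplicit false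

namespace Cfsg.Agent.H521.AN

open Cfsg
open Cfsg.Agent.Characters.Core
open Cfsg.Agent.OddOrderCharacters.NormalInduced Cfsg.Agent.OddOrderCharacters.IndRes
open Cfsg.Agent.OddOrderCharacters.InertiaAbelian
open Cfsg.Agent.H691.AN
open scoped ComplexConjugate

universe u

/-- An irreducible character of degree prime to `q` is not fixed by a nontrivial linear character of
exponent `q`. -/
theorem no_fix {H : Type u} [Group H] [Finite H] {θ : H → ℂ} (hθ : IsIrrCharacter H θ) {t q : ℕ}
    (ht : θ 1 = t) (hqp : q.Prime) (hq : ¬ q ∣ t) (ν : H →* ℂˣ) (hν : ∀ h, ν h ^ q = 1)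
    (hfix : ∀ h, (ν h : ℂ) * θ h = θ h) (h : H) : ν h = 1 := by
  classical
  have := Fintype.ofFinite H
  set K : Subgroup H := ν.ker with hK
  have := Fintype.ofFinite K
  have hidx : K.index ∣ q := by
    have : NeZero q := ⟨hqp.ne_zero⟩
    have h1 : ν.range ≤ rootsOfUnity q ℂ := by
      rintro _ ⟨x, rfl⟩
      exact (mem_rootsOfUnity q _).2 (hν x)
    have h2 := Subgroup.card_dvd_of_le h1
    rw [Complex.card_rootsOfUnity] at h2
    rwa [hK, Subgroup.index_ker]
  have hdeg : charDegree θ = t := Blocks.Basic.charDegree_of_eq ht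
  have hcop : Nat.Coprime K.index (charDegree θ) := by
    rw [hdeg]
    exact Nat.Coprime.coprime_dvd_left hidx ((Nat.Prime.coprime_iff_not_dvd hqp).2 hq)
  have hres := Cfsg.Agent.H597.Degrees.isIrr_restrict_of_coprime K hθ hcop
  have hoff : ∀ g : H, g ∉ K → θ g = 0 := by
    intro g hg
    have h1 := hfix g
    by_contra h0
    apply hg
    rw [hK, MonoidHom.mem_ker]
    apply Units.ext
    rw [Units.val_one]
    have h2 : ((ν g : ℂ) - 1) * θ g = 0 := by rw [sub_mul, h1, one_mul, sub_self]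
    rcases mul_eq_zero.1 h2 with h3 | h3
    · exact sub_eq_zero.1 h3
    · exact absurd h3 h0
  have e1 := classInner_irr_self hθ
  have e2 := classInner_irr_self hres
  unfold classInner at e1 e2
  have hsum : ∑ g : H, θ g * conj (θ g) = ∑ k : K, θ k * conj (θ k) := by
    rw [← Finset.sum_subtype (Finset.univ.filter (· ∈ K)) (fun x => by simp)
      (fun g => θ g * conj (θ g))]
    rw [Finset.sum_filter]
    refine Finset.sum_congr rfl (fun g _ => ?_)
    split_ifs with hg
    · rfl
    · rw [hoff g hg, zero_mul]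
  rw [hsum] at e1
  have hH0 : (Nat.card H : ℂ) ≠ 0 := Nat.cast_ne_zero.2 Nat.card_pos.ne'
  have hK0 : (Nat.card K : ℂ) ≠ 0 := Nat.cast_ne_zero.2 Nat.card_pos.ne'
  have hc : (Nat.card H : ℂ) = Nat.card K := by
    have h1 := (inv_mul_eq_iff_eq_mul₀ hH0).1 e1
    have h2 := (inv_mul_eq_iff_eq_mul₀ hK0).1 e2
    rw [mul_one] at h1 h2
    rw [← h1, ← h2]
  have hc' : Nat.card K = Nat.card H := by exact_mod_cast hc.symm
  have htop : K = ⊤ := Subgroup.eq_top_of_card_eq K hc'
  have : h ∈ K := by rw [htop]; trivial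
  rwa [hK, MonoidHom.mem_ker] at this

/-- A fixed point free endomorphism of a finite abelian group. -/
theorem surj_of_free {Q : Type u} [CommGroup Q] [Finite Q] (α : Q →* Q) (h : ∀ c, α c = c → c = 1)
    (b : Q) : ∃ c, α c * c⁻¹ = b := by
  have hinj : Function.Injective (fun c : Q => α c * c⁻¹) := by
    intro c d hcd
    have h1 : α c * c⁻¹ = α d * d⁻¹ := hcd
    have h2 : α (c * d⁻¹) = c * d⁻¹ := by
      rw [map_mul, map_inv]
      have : α c = α d * d⁻¹ * c := by rw [← h1]; group
      rw [this]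
      rw [mul_assoc, mul_assoc]
      rw [mul_comm (α d), mul_assoc, mul_assoc]
      rw [inv_mul_cancel, mul_one, mul_comm]
    exact mul_inv_eq_one.1 (h _ h2)
  exact (Finite.injective_iff_surjective.1 hinj) b

variable {G : Type u} [Group G] [Finite G] {N M : Subgroup G} {q a : ℕ}

omit [Finite G] in
theorem comm_mem (hF : Frob G N M q a) {x y : G} (hx : x ∈ M) (hy : y ∈ M) :
    x * y * x⁻¹ * y⁻¹ ∈ N :=
  hF.abel (Subgroup.commutator_mem_commutator hx hy)

/-- the quotient `M / N` is commutative -/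
abbrev quotComm [N.Normal] (hF : Frob G N M q a) : CommGroup (M ⧸ N.subgroupOf M) :=
  { (inferInstance : Group (M ⧸ N.subgroupOf M)) with
    mul_comm := by
      intro x y
      induction x using QuotientGroup.induction_on with | _ x => ?_
      induction y using QuotientGroup.induction_on with | _ y => ?_
      rw [← QuotientGroup.mk_mul, ← QuotientGroup.mk_mul]
      apply QuotientGroup.eq.2
      rw [Subgroup.mem_subgroupOf]
      have h1 := comm_mem hF (M.inv_mem y.2) (M.inv_mem x.2)
      convert h1 using 1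
      simp only [Subgroup.coe_mul, Subgroup.coe_inv]
      group }

/-- the linear characters of `M` trivial on `N` -/
abbrev Lin (N M : Subgroup G) : Type u := {ν : M →* ℂˣ // ∀ n : M, (n : G) ∈ N → ν n = 1}

theorem card_lin (hF : Frob G N M q a) : Nat.card (Lin N M) = q ^ a := by
  have := hF.normN
  have := hF.normM
  let _ := quotComm hF
  have h1 : Nat.card ((M ⧸ N.subgroupOf M) →* ℂˣ) = Nat.card (M ⧸ N.subgroupOf M) :=
    CommGroup.card_monoidHom_of_hasEnoughRootsOfUnity _ ℂ
  rw [← hF.card]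
  change _ = (N.subgroupOf M).index
  rw [Subgroup.index, ← h1]
  refine Nat.card_congr ⟨fun ν => QuotientGroup.lift (N.subgroupOf M) ν.1 (fun n hn => ν.2 n hn),
    fun ν => ⟨ν.comp (QuotientGroup.mk' (N.subgroupOf M)), fun n hn => ?_⟩, fun ν => ?_,
    fun ν => ?_⟩
  · have : (QuotientGroup.mk' (N.subgroupOf M)) n = 1 := (QuotientGroup.eq_one_iff n).2 hn
    rw [MonoidHom.comp_apply, this, map_one]
  · ext x
    rfl
  · ext x
    rfl

/-- a linear character of `M / N` fixed by an element outside `M` is trivial -/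
theorem eq_one_of_fixed (hF : Frob G N M q a) [hN : N.Normal] [hM : M.Normal] (lam : Lin N M)
    {x : G} (hx : x ∉ M)
    (h : ∀ g : M, lam.1 ⟨x * g * x⁻¹, hM.conj_mem g g.2 x⟩ = lam.1 g) (g : M) : lam.1 g = 1 := by
  let _ := quotComm hF
  let α : M →* M :=
    { toFun := fun g => ⟨x * g * x⁻¹, hM.conj_mem g g.2 x⟩
      map_one' := by apply Subtype.ext; simp
      map_mul' := by
        intro a b
        apply Subtype.ext
        simp only [Subgroup.coe_mul]
        group }
  have hα : N.subgroupOf M ≤ (N.subgroupOf M).comap α := by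
    intro n hn
    exact hN.conj_mem _ hn x
  let β : (M ⧸ N.subgroupOf M) →* (M ⧸ N.subgroupOf M) := QuotientGroup.map _ _ α hα
  have hβ : ∀ c, β c = c → c = 1 := by
    intro c hc
    induction c using QuotientGroup.induction_on with | _ c => ?_
    have h1 : β (c : M ⧸ N.subgroupOf M) = ((α c : M) : M ⧸ N.subgroupOf M) := rfl
    rw [h1] at hc
    apply (QuotientGroup.eq_one_iff c).2
    rw [Subgroup.mem_subgroupOf]
    apply hF.free x hx c c.2
    have h2 := QuotientGroup.eq.1 hc.symm
    rw [Subgroup.mem_subgroupOf] at h2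
    have h3 := hN.conj_mem _ h2 (c : G)
    convert h3 using 1
    simp only [Subgroup.coe_mul, Subgroup.coe_inv, α, MonoidHom.coe_mk, OneHom.coe_mk]
    group
  obtain ⟨c, hc⟩ := surj_of_free β hβ (g : M ⧸ N.subgroupOf M)
  induction c using QuotientGroup.induction_on with | _ c => ?_
  have h1 : β (c : M ⧸ N.subgroupOf M) = ((α c : M) : M ⧸ N.subgroupOf M) := rfl
  rw [h1, ← QuotientGroup.mk_inv, ← QuotientGroup.mk_mul] at hc
  have h2 := QuotientGroup.eq.1 hc
  rw [Subgroup.mem_subgroupOf] at h2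
  have h3 := lam.2 _ h2
  rw [map_mul, map_inv, map_mul, map_inv] at h3
  have h4 : lam.1 (α c) = lam.1 c := h c
  rw [h4, mul_inv_cancel, inv_one, one_mul] at h3
  exact h3

/-- For `x ∉ M` at most one twist of `θ` is fixed by `x`. -/
theorem eq_of_fixed (hF : Frob G N M q a) [hN : N.Normal] [hM : M.Normal] {θ : M → ℂ}
    (hθ : IsIrrCharacter M θ) {t : ℕ} (ht : θ 1 = t) (hq : ¬ q ∣ t) (ν μ : Lin N M)
    {x : G} (hx : x ∉ M)
    (hν : conjFn M (fun h => (ν.1 h : ℂ) * θ h) x = fun h => (ν.1 h : ℂ) * θ h)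
    (hμ : conjFn M (fun h => (μ.1 h : ℂ) * θ h) x = fun h => (μ.1 h : ℂ) * θ h) : ν = μ := by
  let lam : Lin N M := ⟨ν.1 * μ.1⁻¹, fun n hn => by
    rw [MonoidHom.mul_apply, MonoidHom.inv_apply, ν.2 n hn, μ.2 n hn, inv_one, mul_one]⟩
  let α : M →* M :=
    { toFun := fun g => ⟨x * g * x⁻¹, hM.conj_mem g g.2 x⟩
      map_one' := by apply Subtype.ext; simp
      map_mul' := by
        intro a b
        apply Subtype.ext
        simp only [Subgroup.coe_mul]
        group }
  have hlam : ∀ g, lam.1 g ^ q = 1 := by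
    intro g
    rw [← map_pow]
    apply lam.2
    exact hF.expo g g.2
  have hne : ∀ u : ℂˣ, (u : ℂ) ≠ 0 := fun u => u.ne_zero
  have h1 : ∀ h : M, lam.1 h * (lam.1 (α h))⁻¹ = 1 := by
    intro h
    have h2 := no_fix hθ ht hF.prime hq (lam.1 * (lam.1.comp α)⁻¹)
      (fun g => by
        rw [MonoidHom.mul_apply, MonoidHom.inv_apply, MonoidHom.comp_apply, mul_pow, inv_pow, hlam,
          hlam, inv_one, mul_one])
      (fun g => by
        have e1 : (ν.1 (α g) : ℂ) * θ (α g) = (ν.1 g : ℂ) * θ g := congrFun hν g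
        have e2 : (μ.1 (α g) : ℂ) * θ (α g) = (μ.1 g : ℂ) * θ g := congrFun hμ g
        have e3 : θ (α g) = (μ.1 (α g) : ℂ)⁻¹ * ((μ.1 g : ℂ) * θ g) := by
          rw [← e2, ← mul_assoc, inv_mul_cancel₀ (hne _), one_mul]
        rw [e3] at e1
        have e4 : ((lam.1 * (lam.1.comp α)⁻¹) g : ℂ)
            = (ν.1 g : ℂ) * (μ.1 g : ℂ)⁻¹ * ((ν.1 (α g) : ℂ) * (μ.1 (α g) : ℂ)⁻¹)⁻¹ := by
          simp only [lam, MonoidHom.mul_apply, MonoidHom.inv_apply, MonoidHom.comp_apply,
            Units.val_mul, Units.val_inv_eq_inv_val]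
        rw [e4]
        have n1 := hne (ν.1 (α g))
        have n2 := hne (μ.1 (α g))
        have n3 := hne (ν.1 g)
        have n4 := hne (μ.1 g)
        have e5 : (ν.1 (α g) : ℂ) * (μ.1 g : ℂ) * θ g = (μ.1 (α g) : ℂ) * (ν.1 g : ℂ) * θ g := by
          field_simp at e1
          linear_combination e1
        field_simp
        linear_combination (-1) * e5) h
    rwa [MonoidHom.mul_apply, MonoidHom.inv_apply, MonoidHom.comp_apply] at h2
  have h2 := eq_one_of_fixed hF lam hx (fun g => (mul_inv_eq_one.1 (h1 g)).symm)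
  apply Subtype.ext
  ext g
  have h3 := h2 g
  have h4 : ν.1 g * (μ.1 g)⁻¹ = 1 := h3
  rw [mul_inv_eq_one.1 h4]

/-- `|G : M| < q ^ a` -/
theorem index_lt (hF : Frob G N M q a) : M.index < q ^ a := by
  classical
  have hN := hF.normN
  have hM := hF.normM
  have hne : ∃ g, g ∈ M ∧ g ∉ N := by
    by_contra hcon
    push Not at hcon
    have h1 : N.relIndex M = 1 := Subgroup.relIndex_eq_one.2 hcon
    rw [hF.card] at h1
    have h2 := Nat.one_lt_pow hF.pos.ne' hF.prime.one_lt
    omega
  obtain ⟨g, hg, hgN⟩ := hne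
  rw [← hF.card]
  change Nat.card (G ⧸ M) < Nat.card (M ⧸ N.subgroupOf M)
  let f : G ⧸ M → {c : M ⧸ N.subgroupOf M // c ≠ 1} := fun c =>
    ⟨((⟨c.out * g * c.out⁻¹, hM.conj_mem g hg c.out⟩ : M) : M ⧸ N.subgroupOf M), by
      intro h0
      have h1 := (QuotientGroup.eq_one_iff _).1 h0
      rw [Subgroup.mem_subgroupOf] at h1
      apply hgN
      have h2 := hN.conj_mem _ h1 (c.out)⁻¹
      convert h2 using 1
      group⟩
  have hf : Function.Injective f := by
    intro c d hcd
    have h1 := congrArg Subtype.val hcd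
    have h2 := QuotientGroup.eq.1 h1
    rw [Subgroup.mem_subgroupOf] at h2
    simp only [Subgroup.coe_mul, Subgroup.coe_inv] at h2
    by_contra hne
    apply hgN
    have hout : (d.out)⁻¹ * c.out ∉ M := by
      intro h3
      apply hne
      have h4 := QuotientGroup.eq.2 h3
      rw [QuotientGroup.out_eq', QuotientGroup.out_eq'] at h4
      exact h4.symm
    apply hF.free _ hout g hg
    have h3 := hN.conj_mem _ (N.inv_mem (hN.conj_mem _ h2 (d.out)⁻¹)) g
    convert h3 using 1
    group
  have h1 := Nat.card_le_card_of_injective f hf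
  have h2 : Nat.card {c : M ⧸ N.subgroupOf M // c ≠ 1} < Nat.card (M ⧸ N.subgroupOf M) :=
    Finite.card_subtype_lt (p := fun c : M ⧸ N.subgroupOf M => c ≠ 1) (x := 1) (by simp)
  omega

/-- Some twist of `θ` has inertia group `M`. -/
theorem exists_twist (hF : Frob G N M q a) [hM : M.Normal] {θ : M → ℂ}
    (hθ : IsIrrCharacter M θ) {t : ℕ} (ht : θ 1 = t) (hq : ¬ q ∣ t) :
    ∃ ν : Lin N M, ∀ x : G,
      conjFn M (fun h => (ν.1 h : ℂ) * θ h) x = (fun h => (ν.1 h : ℂ) * θ h) → x ∈ M := by
  classical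
  have hN := hF.normN
  by_contra hcon
  push Not at hcon
  choose x hx hxM using hcon
  let f : Lin N M → G ⧸ M := fun ν => (x ν : G ⧸ M)
  have hf : Function.Injective f := by
    intro ν μ hνμ
    have h1 : (x ν)⁻¹ * x μ ∈ M := QuotientGroup.eq.1 hνμ
    refine eq_of_fixed hF hθ ht hq ν μ (hxM μ) ?_ (hx μ)
    have h2 : IsClassFunction M (fun h => (ν.1 h : ℂ) * θ h) :=
      isIrr_isClassFunction (isIrr_mul_hom ν.1 hθ)
    have h3 : x μ = (x μ * (x ν)⁻¹) * x ν := by group
    have h4 : x μ * (x ν)⁻¹ ∈ M := by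
      have h5 := hM.conj_mem _ h1 (x μ)
      convert h5 using 1
      group
    rw [h3, conjFn_mul, conjFn_of_mem M h2 h4]
    exact hx ν
  have h1 := Nat.card_le_card_of_injective f hf
  rw [card_lin hF] at h1
  have h2 := index_lt hF
  rw [Subgroup.index] at h2
  omega

/-- **S4766, B7.** -/
theorem b7_coprime {G : Type u} [Group G] [Finite G] {N M : Subgroup G} {q a : ℕ}
    (hF : Frob G N M q a) {θ : M → ℂ} (hθ : IsIrrCharacter M θ) {t : ℕ} (ht : θ 1 = t)
    (hq : ¬ q ∣ t) : M.index * t ∈ charDegrees G := by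
  classical
  have := hF.normM
  have := Fintype.ofFinite G
  obtain ⟨ν, hν⟩ := exists_twist hF hθ ht hq
  have h1 := isIrr_indFun_of_stabilizer M (isIrr_mul_hom ν.1 hθ) hν
  refine H424.DegTools.mem_charDegrees.2 ⟨_, h1, ?_⟩
  rw [indFun_apply_one, map_one, ht]
  push_cast
  ring

end Cfsg.Agent.H521.AN
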